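import Mathlib.CategoryTheory.Abelian.Projective.Dimension
import Mathlib.Algebra.Homology.ExactSequence

/-!
The first term of an exact sequence with projective middle terms and last term of bounded projective
dimension.
-/

set_option autoImplicit false

noncomputable section

universe v u

open CategoryTheory Limits

namespace Groth.Agent.Syz72

variable {C : Type u} [Category.{v} C] [Abelian C]

theorem projective_first {m : ℕ} (S : ComposableArrows C (m + 1)) (hS : S.Exact)
    (hmono : Mono (S.map' 0 1)) (hepi : Epi (S.map' m (m + 1)))
    (hE : ∀ (i : ℕ) (_ : 1 ≤ i) (hi : i ≤ m), Projective (S.obj' i))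
    (hF : HasProjectiveDimensionLT (S.obj' (m + 1)) (m + 1)) : Projective (S.obj' 0) := by
  cases m with
  | zero =>
    have : IsIso (S.map' 0 1) := isIso_of_mono_of_epi _
    have : Projective (S.obj' 1) := (projective_iff_hasProjectiveDimensionLT_one).mpr hF
    exact Projective.of_iso (asIso (S.map' 0 1 zero_le_one le_rfl)).symm this
  | succ m =>
    let d (j : ℕ) (hj : j ≤ m + 1) : S.obj' j ⟶ S.obj' (j + 1) := S.map' j (j + 1)
    have key : ∀ (l j : ℕ) (h1 : 1 ≤ j) (hj : j + l = m + 1),
        HasProjectiveDimensionLT (kernel (d j (by omega))) j := by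
      intro l
      induction l with
      | zero =>
        intro j h1 hj
        obtain rfl : j = m + 1 := by omega
        have hSE : (ShortComplex.mk (kernel.ι (d (m + 1) le_rfl)) (d (m + 1) le_rfl)
            (kernel.condition _)).ShortExact :=
          { exact := ShortComplex.exact_of_f_is_kernel _ (kernelIsKernel _)
            epi_g := hepi }
        have := (projective_iff_hasProjectiveDimensionLT_one).mp (hE (m + 1) h1 le_rfl)
        exact hSE.hasProjectiveDimensionLT_X₁ _ (hasProjectiveDimensionLT_of_ge _ 1 (m + 1) h1) hF
      | succ l ih =>
        intro j h1 hj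
        have hK := ih (j + 1) (by omega) (by omega)
        have hex := hS.exact' j (j + 1) (j + 1 + 1) rfl rfl (by omega)
        let q : S.obj' j ⟶ kernel (d (j + 1) (by omega)) :=
          kernel.lift _ (d j (by omega)) (hS.zero j (by omega))
        have hq : Epi q := hex.epi_kernelLift
        have hι : kernel.ι (d j (by omega)) ≫ q = 0 := by
          rw [← cancel_mono (kernel.ι (d (j + 1) (by omega))), Category.assoc, kernel.lift_ι,
            kernel.condition, zero_comp]
        have hSE : (ShortComplex.mk (kernel.ι (d j (by omega))) q hι).ShortExact :=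
          { exact := ShortComplex.exact_of_f_is_kernel _ (KernelFork.IsLimit.ofι' _ _ fun {A} k hk => by
              have hk' : k ≫ d j (by omega) = 0 := by
                refine (congrArg (k ≫ ·) (kernel.lift_ι (d (j + 1) (by omega)) (d j (by omega))
                  (hS.zero j (by omega))).symm).trans ?_
                rw [← Category.assoc, hk, zero_comp]
              exact ⟨kernel.lift _ k hk', kernel.lift_ι _ _ _⟩)
            epi_g := hq }
        have := (projective_iff_hasProjectiveDimensionLT_one).mp (hE j h1 (by omega))
        exact hSE.hasProjectiveDimensionLT_X₁ _ (hasProjectiveDimensionLT_of_ge _ 1 j h1) hK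
    have h := key m 1 le_rfl (by omega)
    have hex := hS.exact' 0 1 2 rfl rfl (by omega)
    let q : S.obj' 0 ⟶ kernel (d 1 (by omega)) := kernel.lift _ (d 0 (by omega)) (hS.zero 0 (by omega))
    have hq : Epi q := hex.epi_kernelLift
    have : Mono q := mono_of_mono_fac (kernel.lift_ι (d 1 (by omega)) (d 0 (by omega)) _)
    have : IsIso q := isIso_of_mono_of_epi q
    exact Projective.of_iso (asIso q).symm ((projective_iff_hasProjectiveDimensionLT_one).mpr h)

end Groth.Agent.Syz72
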